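import Mathlib

set_option autoImplicit false

/-!
# From coprime actions on groups to coprime linear actions
-/

namespace Cfsg.Agent.H471.Bridge4621

universe u v w

/-- If every solvable group acting faithfully and coprimely on a finite group has a base of
size two, then so does every solvable coprime linear group. -/
theorem base_two
    (h : ∀ (A : Type v) (K : Type w) [Group A] [Finite A] [Group K] [Finite K]
      [MulDistribMulAction A K] [FaithfulSMul A K], Group.IsSolvable A →
      (Nat.card A).Coprime (Nat.card K) → ∃ x y : K, ∀ a : A, a • x = x → a • y = y → a = 1)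
    {F : Type u} [Field F] {V : Type w} [AddCommGroup V] [Module F V] [Finite V]
    {G : Type v} [Group G] [Finite G] [Group.IsSolvable G] (ρ : Representation F G V)
    (hfaith : Function.Injective ρ) (hcop : (Nat.card G).Coprime (Nat.card V)) :
    ∃ x y : V, ∀ g : G, ρ g x = x → ρ g y = y → g = 1 := by
  letI : MulDistribMulAction G (Multiplicative V) :=
    { smul := fun g v => Multiplicative.ofAdd (ρ g (Multiplicative.toAdd v))
      one_smul := fun v => by
        show Multiplicative.ofAdd (ρ 1 (Multiplicative.toAdd v)) = v
        simp
      mul_smul := fun g k v => by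
        show Multiplicative.ofAdd (ρ (g * k) (Multiplicative.toAdd v)) =
          Multiplicative.ofAdd (ρ g (Multiplicative.toAdd
            (Multiplicative.ofAdd (ρ k (Multiplicative.toAdd v)))))
        simp
      smul_mul := fun g v w => by
        show Multiplicative.ofAdd (ρ g (Multiplicative.toAdd (v * w))) =
          Multiplicative.ofAdd (ρ g (Multiplicative.toAdd v)) *
            Multiplicative.ofAdd (ρ g (Multiplicative.toAdd w))
        rw [toAdd_mul, map_add, ofAdd_add]
      smul_one := fun g => by
        show Multiplicative.ofAdd (ρ g (Multiplicative.toAdd 1)) = 1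
        simp }
  have hs : ∀ (g : G) (v : V), g • (Multiplicative.ofAdd v) = Multiplicative.ofAdd (ρ g v) :=
    fun g v => rfl
  haveI : FaithfulSMul G (Multiplicative V) := by
    refine ⟨fun {g k} hgk => hfaith ?_⟩
    refine LinearMap.ext fun v => ?_
    have := hgk (Multiplicative.ofAdd v)
    rw [hs, hs] at this
    exact Multiplicative.ofAdd.injective this
  haveI : Finite (Multiplicative V) := inferInstanceAs (Finite V)
  have hc : (Nat.card G).Coprime (Nat.card (Multiplicative V)) := hcop
  obtain ⟨x, y, hxy⟩ := h G (Multiplicative V) ‹_› hc
  refine ⟨Multiplicative.toAdd x, Multiplicative.toAdd y, fun g hx hy => hxy g ?_ ?_⟩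
  · exact congrArg Multiplicative.ofAdd hx
  · exact congrArg Multiplicative.ofAdd hy

end Cfsg.Agent.H471.Bridge4621
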