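import Cfsg.Agent.TypeLFive.LThreeSLTwo
import Cfsg.Agent.TwoFusion.QuatCoverSL
import Cfsg.Agent.Lib.Cores

set_option autoImplicit false

/-!
# The core of an involution centralizer with a product of two `SL(2,q)` of index two
-/

namespace Cfsg.Agent.H471.CoreCent

open Subgroup Cfsg.Agent

theorem sl_no_odd {F : Type*} [Field F] [Fintype F] (hF : Odd (Fintype.card F))
    {N : Subgroup (Matrix.SpecialLinearGroup (Fin 2) F)} (hn : N.Normal) (ho : (Nat.card N).Coprime 2) :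
    N = ⊥ := by
  have h := Lib.Cores.le_pPrimeCore (p := 2) hn ho
  have h2 := TypeLFive.LThreeSLTwo.oddCore_sl hF
  rw [eq_bot_iff, ← h2]
  exact h

variable {G : Type*} [Group G] [Finite G]

/-- A subgroup of odd order of `G`, normalized by `L ≅ SL(2,q)` and contained in it, is trivial. -/
theorem bot_of_le {L : Subgroup G} {F : Type*} [Field F] [Fintype F] (hF : Odd (Fintype.card F))
    (e : ↥L ≃* Matrix.SpecialLinearGroup (Fin 2) F) {N : Subgroup G} (hNL : N ≤ L)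
    (hn : ∀ x ∈ L, ∀ n ∈ N, x * n * x⁻¹ ∈ N) (ho : (Nat.card N).Coprime 2) : N = ⊥ := by
  set M : Subgroup L := N.subgroupOf L with hM
  have hMn : M.Normal := ⟨fun n hn' g => by
    rw [hM, mem_subgroupOf] at hn' ⊢
    simpa using hn g g.2 n hn'⟩
  have hMc : Nat.card M = Nat.card N := by
    exact Nat.card_congr (Subgroup.subgroupOfEquivOfLe hNL).toEquiv
  have h1 : (M.map e.toMonoidHom).Normal := hMn.map _ e.surjective
  have h2 : Nat.card (M.map e.toMonoidHom) = Nat.card M :=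
    (Nat.card_congr (M.equivMapOfInjective _ e.injective).toEquiv).symm
  have h3 := sl_no_odd hF h1 (by rw [h2, hMc]; exact ho)
  have h4 : M = ⊥ := (Subgroup.map_eq_bot_iff_of_injective M e.injective).1 h3
  have h5 := Subgroup.subgroupOf_eq_bot.1 h4
  rwa [disjoint_iff, inf_eq_left.2 hNL] at h5

/-- The elements of the centre of `L ≅ SL(2,q)` square to one. -/
theorem sq_eq_one {L : Subgroup G} {F : Type*} [Field F] [Fintype F] (hF : Odd (Fintype.card F))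
    (e : ↥L ≃* Matrix.SpecialLinearGroup (Fin 2) F) {a : G} (ha : a ∈ L)
    (hc : ∀ x ∈ L, x * a = a * x) : a ^ 2 = 1 := by
  have h1 : e ⟨a, ha⟩ ∈ Subgroup.center (Matrix.SpecialLinearGroup (Fin 2) F) := by
    rw [Subgroup.mem_center_iff]
    intro g
    obtain ⟨x, rfl⟩ := e.surjective g
    rw [← map_mul, ← map_mul]
    congr 1
    exact Subtype.ext (hc x x.2)
  rw [TwoFusion.QuatCoverSL.center_eq_zpowers hF] at h1
  have h3 : orderOf (e ⟨a, ha⟩) ∣ 2 :=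
    (orderOf_dvd_of_mem_zpowers h1).trans (dvd_of_eq (TwoFusion.QuatCoverSL.orderOf_neg_one hF))
  have h4 : (e ⟨a, ha⟩) ^ 2 = 1 := orderOf_dvd_iff_pow_eq_one.1 h3
  have h5 : (⟨a, ha⟩ : L) ^ 2 = 1 := e.injective (by rw [map_pow, h4, map_one])
  exact congrArg Subtype.val h5

/-- If `Y = L₁ L₂` is a central product of two groups `SL(2,q)`, `q` odd, then a subgroup of odd
order of `Y` normalized by `Y` is trivial. -/
theorem eq_bot {F₁ : Type*} [Field F₁] [Fintype F₁] {F₂ : Type*} [Field F₂] [Fintype F₂]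
    (hF₁ : Odd (Fintype.card F₁)) (hF₂ : Odd (Fintype.card F₂)) (L₁ L₂ : Subgroup G)
    (e₁ : ↥L₁ ≃* Matrix.SpecialLinearGroup (Fin 2) F₁) (e₂ : ↥L₂ ≃* Matrix.SpecialLinearGroup (Fin 2) F₂)
    (hc : ∀ x ∈ L₁, ∀ y ∈ L₂, x * y = y * x) {N : Subgroup G} (hN : N ≤ L₁ ⊔ L₂)
    (hn : ∀ x ∈ L₁ ⊔ L₂, ∀ n ∈ N, x * n * x⁻¹ ∈ N) (ho : (Nat.card N).Coprime 2) : N = ⊥ := by
  have hprod : ∀ n ∈ L₁ ⊔ L₂, ∃ a ∈ L₁, ∃ b ∈ L₂, n = a * b := by
    let K : Subgroup G :=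
      { carrier := {n | ∃ a ∈ L₁, ∃ b ∈ L₂, n = a * b}
        mul_mem' := by
          rintro _ _ ⟨a, ha, b, hb, rfl⟩ ⟨a', ha', b', hb', rfl⟩
          refine ⟨a * a', mul_mem ha ha', b * b', mul_mem hb hb', ?_⟩
          rw [mul_assoc, ← mul_assoc b, ← hc a' ha' b hb]
          group
        one_mem' := ⟨1, one_mem _, 1, one_mem _, by simp⟩
        inv_mem' := by
          rintro _ ⟨a, ha, b, hb, rfl⟩
          refine ⟨a⁻¹, L₁.inv_mem ha, b⁻¹, L₂.inv_mem hb, ?_⟩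
          rw [mul_inv_rev, ← hc _ (L₁.inv_mem ha) _ (L₂.inv_mem hb)] }
    have hle : L₁ ⊔ L₂ ≤ K :=
      sup_le (fun x hx => ⟨x, hx, 1, one_mem _, by simp⟩) (fun x hx => ⟨1, one_mem _, x, hx, by simp⟩)
    exact fun n hn' => hle hn'
  have hcop : ∀ M : Subgroup G, M ≤ N → (Nat.card M).Coprime 2 := fun M hM =>
    Nat.Coprime.coprime_dvd_left (Subgroup.card_dvd_of_le hM) ho
  -- `N ∩ Lᵢ = 1`
  have hi1 : N ⊓ L₁ = ⊥ := bot_of_le hF₁ e₁ inf_le_right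
    (fun x hx n hn' => ⟨hn x (le_sup_left (a := L₁) hx) n hn'.1,
      L₁.mul_mem (L₁.mul_mem hx hn'.2) (L₁.inv_mem hx)⟩) (hcop _ inf_le_left)
  have hi2 : N ⊓ L₂ = ⊥ := bot_of_le hF₂ e₂ inf_le_right
    (fun x hx n hn' => ⟨hn x (le_sup_right (a := L₁) hx) n hn'.1,
      L₂.mul_mem (L₂.mul_mem hx hn'.2) (L₂.inv_mem hx)⟩) (hcop _ inf_le_left)
  -- `N` centralizes `L₁` and `L₂`
  have hz1 : ∀ x ∈ L₁, ∀ n ∈ N, x * n = n * x := by
    intro x hx n hn'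
    obtain ⟨a, ha, b, hb, rfl⟩ := hprod n (hN hn')
    have h1 : x * (a * b) * x⁻¹ * (a * b)⁻¹ ∈ N ⊓ L₁ := by
      refine ⟨N.mul_mem (hn x (le_sup_left (a := L₁) hx) _ hn') (N.inv_mem hn'), ?_⟩
      have : x * (a * b) * x⁻¹ * (a * b)⁻¹ = x * a * x⁻¹ * a⁻¹ := by
        have h2 := hc _ (L₁.inv_mem hx) b hb
        calc x * (a * b) * x⁻¹ * (a * b)⁻¹ = x * a * (b * x⁻¹) * b⁻¹ * a⁻¹ := by group
          _ = x * a * (x⁻¹ * b) * b⁻¹ * a⁻¹ := by rw [h2]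
          _ = _ := by group
      rw [this]
      exact L₁.mul_mem (L₁.mul_mem (L₁.mul_mem hx ha) (L₁.inv_mem hx)) (L₁.inv_mem ha)
    rw [hi1, Subgroup.mem_bot, mul_inv_eq_one, mul_inv_eq_iff_eq_mul] at h1
    exact h1
  have hz2 : ∀ x ∈ L₂, ∀ n ∈ N, x * n = n * x := by
    intro x hx n hn'
    obtain ⟨a, ha, b, hb, rfl⟩ := hprod n (hN hn')
    have h1 : x * (a * b) * x⁻¹ * (a * b)⁻¹ ∈ N ⊓ L₂ := by
      refine ⟨N.mul_mem (hn x (le_sup_right (a := L₁) hx) _ hn') (N.inv_mem hn'), ?_⟩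
      have : x * (a * b) * x⁻¹ * (a * b)⁻¹ = x * b * x⁻¹ * b⁻¹ := by
        have h2 := hc a ha x hx
        have h3 := hc a ha _ (L₂.mul_mem (L₂.mul_mem (L₂.mul_mem hx hb) (L₂.inv_mem hx)) (L₂.inv_mem hb))
        calc x * (a * b) * x⁻¹ * (a * b)⁻¹ = (x * a) * b * x⁻¹ * b⁻¹ * a⁻¹ := by group
          _ = (a * x) * b * x⁻¹ * b⁻¹ * a⁻¹ := by rw [h2]
          _ = a * (x * b * x⁻¹ * b⁻¹) * a⁻¹ := by group
          _ = (x * b * x⁻¹ * b⁻¹) * a * a⁻¹ := by rw [h3]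
          _ = _ := by group
      rw [this]
      exact L₂.mul_mem (L₂.mul_mem (L₂.mul_mem hx hb) (L₂.inv_mem hx)) (L₂.inv_mem hb)
    rw [hi2, Subgroup.mem_bot, mul_inv_eq_one, mul_inv_eq_iff_eq_mul] at h1
    exact h1
  rw [eq_bot_iff]
  intro n hn'
  obtain ⟨a, ha, b, hb, rfl⟩ := hprod n (hN hn')
  have ha2 : a ^ 2 = 1 := by
    refine sq_eq_one hF₁ e₁ ha fun x hx => ?_
    have h1 := hz1 x hx _ hn'
    have h2 := hc x hx b hb
    have h3 : x * a * b = a * x * b := by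
      rw [mul_assoc a x b, h2, ← mul_assoc, ← h1, mul_assoc]
    exact mul_right_cancel h3
  have hb2 : b ^ 2 = 1 := by
    refine sq_eq_one hF₂ e₂ hb fun x hx => ?_
    have h1 := hz2 x hx _ hn'
    have h2 := hc a ha x hx
    have h3 : a * (x * b) = a * (b * x) := by
      rw [← mul_assoc, h2, mul_assoc, h1, mul_assoc]
    exact mul_left_cancel h3
  have hab : (a * b) ^ 2 = 1 := by
    rw [(show Commute a b from hc a ha b hb).mul_pow, ha2, hb2, mul_one]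
  have h4 : orderOf (a * b) ∣ Nat.card N := by
    have h5 := orderOf_dvd_natCard (⟨a * b, hn'⟩ : N)
    rwa [← Subgroup.orderOf_coe] at h5
  have h5 : orderOf (a * b) = 1 :=
    Nat.eq_one_of_dvd_coprimes ho h4 (orderOf_dvd_of_pow_eq_one hab)
  exact Subgroup.mem_bot.2 (orderOf_eq_one_iff.1 h5)

/-- The centralizer form. -/
theorem oddCore_eq_bot {F₁ : Type*} [Field F₁] [Fintype F₁] {F₂ : Type*} [Field F₂] [Fintype F₂]
    (hF₁ : Odd (Fintype.card F₁)) (hF₂ : Odd (Fintype.card F₂)) (L₁ L₂ : Subgroup G)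
    (e₁ : ↥L₁ ≃* Matrix.SpecialLinearGroup (Fin 2) F₁) (e₂ : ↥L₂ ≃* Matrix.SpecialLinearGroup (Fin 2) F₂)
    (hc : ∀ x ∈ L₁, ∀ y ∈ L₂, x * y = y * x) {C : Subgroup G} (hle : L₁ ⊔ L₂ ≤ C)
    (hi : (L₁ ⊔ L₂).relIndex C = 2) : Cfsg.oddCore ↥C = ⊥ := by
  have hN : (Cfsg.oddCore ↥C).Normal := Lib.Cores.pPrimeCore_normal 2
  have hco : (Nat.card (Cfsg.oddCore ↥C)).Coprime 2 := Lib.Cores.pPrimeCore_coprime 2
  have hYi : ((L₁ ⊔ L₂).subgroupOf C).index = 2 := hi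
  have hYn : ((L₁ ⊔ L₂).subgroupOf C).Normal := Subgroup.normal_of_index_eq_two hYi
  have hsub : Cfsg.oddCore ↥C ≤ (L₁ ⊔ L₂).subgroupOf C := by
    intro x hx
    have h1 : orderOf x ∣ Nat.card (Cfsg.oddCore ↥C) := by
      have h5 := orderOf_dvd_natCard (⟨x, hx⟩ : Cfsg.oddCore ↥C)
      rwa [← Subgroup.orderOf_coe] at h5
    have h2 : x ^ 2 ∈ (L₁ ⊔ L₂).subgroupOf C := by
      have := Subgroup.pow_index_mem ((L₁ ⊔ L₂).subgroupOf C) x
      rwa [hYi] at this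
    have h3 : (orderOf x).Coprime 2 := Nat.Coprime.coprime_dvd_left h1 hco
    obtain ⟨m, hm⟩ := exists_pow_eq_self_of_coprime (h3.symm)
    rw [← hm]
    exact pow_mem h2 m
  set N : Subgroup G := (Cfsg.oddCore ↥C).map C.subtype with hNdef
  have hNle : N ≤ L₁ ⊔ L₂ := by
    rintro _ ⟨x, hx, rfl⟩
    exact hsub hx
  have hNn : ∀ x ∈ L₁ ⊔ L₂, ∀ n ∈ N, x * n * x⁻¹ ∈ N := by
    rintro x hx _ ⟨n, hn, rfl⟩
    exact ⟨⟨x, hle hx⟩ * n * ⟨x, hle hx⟩⁻¹, hN.conj_mem n hn _, rfl⟩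
  have hNc : (Nat.card N).Coprime 2 := by
    have : Nat.card N = Nat.card (Cfsg.oddCore ↥C) :=
      (Nat.card_congr ((Cfsg.oddCore ↥C).equivMapOfInjective _ C.subtype_injective).toEquiv).symm
    rw [this]; exact hco
  have h := eq_bot hF₁ hF₂ L₁ L₂ e₁ e₂ hc hNle hNn hNc
  exact (Subgroup.map_eq_bot_iff_of_injective _ C.subtype_injective).1 h

end Cfsg.Agent.H471.CoreCent
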