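import Cfsg.Agent.H529.PiElem

/-!
The number `k_π(G)` of conjugacy classes of `π`-elements.

* `card_piPairs_insert` : `|G| k_{μ ∪ {r}}(G) = ∑_{v a μ-element} |C(v)| k_r(C(v))`;
* `kPi_insert_le` : `k_{μ ∪ {r}}(G) ≤ |G|_r k_μ(G)`;
* `weight_bound` : a weighting estimate for sums over `p`-elements through a Sylow subgroup;
* `kPi_le_of_fib` : `m k_p(G) ≤ |P| + (m-1)|D|` if the elements of `P \ D` have at least `m` conjugates in `P`.
-/

set_option autoImplicit false

open scoped Pointwise

namespace Cfsg.Agent.H471.KPi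

open Cfsg.Agent.H529.PiElem

/-- number of conjugacy classes of `π`-elements -/
noncomputable def kPi (π : Set ℕ) (G : Type*) [Group G] : ℕ := Nat.card (PiClasses π G)

variable {G : Type*} [Group G]

theorem card_piPairs_eq (π : Set ℕ) : Nat.card (PiPairs π G) = kPi π G * Nat.card G :=
  card_piPairs π G

theorem isPiEl_one (π : Set ℕ) : IsPiEl π (1 : G) := by
  intro q hq h
  rw [orderOf_one] at h
  exact absurd (Nat.dvd_one.1 h) hq.one_lt.ne'

theorem isPiEl_mono {π σ : Set ℕ} (h : π ⊆ σ) {g : G} (hg : IsPiEl π g) : IsPiEl σ g :=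
  fun q hq hqd => h (hg q hq hqd)

theorem isPiEl_pow {π : Set ℕ} {g : G} (hg : IsPiEl π g) (n : ℕ) : IsPiEl π (g ^ n) :=
  fun q hq hqd => hg q hq (hqd.trans (orderOf_pow_dvd n))

theorem isPiEl_inv {π : Set ℕ} {g : G} (hg : IsPiEl π g) : IsPiEl π (g⁻¹) := by
  intro q hq hqd
  rw [orderOf_inv] at hqd
  exact hg q hq hqd

theorem eq_one_of_disjoint {π σ : Set ℕ} (h : Disjoint π σ) {g : G} (h1 : IsPiEl π g)
    (h2 : IsPiEl σ g) : g = 1 := by
  rw [← orderOf_eq_one_iff]
  by_contra hne
  obtain ⟨q, hq, hqd⟩ := Nat.exists_prime_and_dvd hne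
  exact Set.disjoint_left.1 h (h1 q hq hqd) (h2 q hq hqd)

theorem isPiEl_singleton_iff [Finite G] {p : ℕ} (hp : p.Prime) {g : G} :
    IsPiEl {p} g ↔ ∃ k : ℕ, orderOf g = p ^ k := by
  constructor
  · intro h
    refine ⟨(orderOf g).primeFactorsList.length, ?_⟩
    apply Nat.eq_prime_pow_of_unique_prime_dvd (orderOf_pos g).ne'
    intro d hd hdd
    exact h d hd hdd
  · rintro ⟨k, hk⟩ q hq hqd
    rw [hk] at hqd
    exact (Nat.prime_dvd_prime_iff_eq hq hp).1 (hq.dvd_of_dvd_pow hqd)

/-- `k_π` is invariant under isomorphism -/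
theorem kPi_congr [Finite G] (π : Set ℕ) {H : Type*} [Group H] (e : G ≃* H) : kPi π G = kPi π H := by
  have hel : ∀ g : G, IsPiEl π g ↔ IsPiEl π (e g) := by
    intro g
    unfold IsPiEl
    rw [show orderOf (e g) = orderOf g from e.orderOf_eq g]
  have hG : Nat.card G = Nat.card H := Nat.card_congr e.toEquiv
  have h1 : Nat.card (PiPairs π G) = Nat.card (PiPairs π H) := by
    apply Nat.card_congr
    refine Equiv.subtypeEquiv (Equiv.prodCongr e.toEquiv e.toEquiv) ?_
    rintro ⟨g, h⟩
    simp only [Equiv.prodCongr_apply, Prod.map, MulEquiv.toEquiv_eq_coe, EquivLike.coe_coe]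
    rw [← hel, ← map_mul, ← map_mul, e.injective.eq_iff]
  rw [card_piPairs_eq, card_piPairs_eq, hG] at h1
  exact Nat.eq_of_mul_eq_mul_right (by rw [← hG]; exact Nat.card_pos) h1

/-- conjugate elements have isomorphic centralizers -/
theorem kPi_centralizer_conj [Finite G] (π : Set ℕ) {u v : G} (h : IsConj u v) :
    kPi π (Subgroup.centralizer ({u} : Set G)) = kPi π (Subgroup.centralizer ({v} : Set G)) := by
  rw [isConj_iff] at h
  obtain ⟨c, rfl⟩ := h
  have h1 : (Subgroup.centralizer ({u} : Set G)).map (MulAut.conj c).toMonoidHom =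
      Subgroup.centralizer ({c * u * c⁻¹} : Set G) := by
    ext x
    rw [Subgroup.mem_map, Subgroup.mem_centralizer_singleton_iff]
    constructor
    · rintro ⟨y, hy, rfl⟩
      rw [Subgroup.mem_centralizer_singleton_iff] at hy
      simp only [MulEquiv.coe_toMonoidHom, MulAut.conj_apply]
      calc c * y * c⁻¹ * (c * u * c⁻¹) = c * (y * u) * c⁻¹ := by group
        _ = c * (u * y) * c⁻¹ := by rw [hy]
        _ = _ := by group
    · intro hx
      refine ⟨c⁻¹ * x * c, ?_, ?_⟩
      · rw [Subgroup.mem_centralizer_singleton_iff]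
        calc c⁻¹ * x * c * u = c⁻¹ * (x * (c * u * c⁻¹)) * c := by group
          _ = c⁻¹ * ((c * u * c⁻¹) * x) * c := by rw [hx]
          _ = _ := by group
      · simp only [MulEquiv.coe_toMonoidHom, MulAut.conj_apply]
        group
  rw [← h1]
  exact kPi_congr π ((Subgroup.centralizer ({u} : Set G)).equivMapOfInjective _ (MulAut.conj c).injective)

theorem card_centralizer_conj [Finite G] {u v : G} (h : IsConj u v) :
    Nat.card (Subgroup.centralizer ({u} : Set G)) = Nat.card (Subgroup.centralizer ({v} : Set G)) := by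
  rw [isConj_iff] at h
  obtain ⟨c, rfl⟩ := h
  refine Nat.card_congr ⟨fun x => ⟨c * x * c⁻¹, ?_⟩, fun x => ⟨c⁻¹ * x * c, ?_⟩, ?_, ?_⟩
  · have := Subgroup.mem_centralizer_singleton_iff.1 x.2
    rw [Subgroup.mem_centralizer_singleton_iff]
    calc c * x * c⁻¹ * (c * u * c⁻¹) = c * (x * u) * c⁻¹ := by group
      _ = c * (u * x) * c⁻¹ := by rw [this]
      _ = _ := by group
  · have := Subgroup.mem_centralizer_singleton_iff.1 x.2
    rw [Subgroup.mem_centralizer_singleton_iff]
    calc c⁻¹ * x * c * u = c⁻¹ * (x * (c * u * c⁻¹)) * c := by group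
      _ = c⁻¹ * ((c * u * c⁻¹) * x) * c := by rw [this]
      _ = _ := by group
  · intro x
    apply Subtype.ext
    simp only
    group
  · intro x
    apply Subtype.ext
    simp only
    group

open scoped Classical in
omit [Group G] in
theorem sum_subtype_ite [Fintype G] (p : G → Prop) (f : G → ℕ) :
    ∑ v : {v : G // p v}, f v = ∑ v : G, if p v then f v else 0 := by
  rw [← Finset.sum_filter]
  exact (Finset.sum_subtype _ (by intro x; simp) f).symm

open scoped Classical in
/-- pairs counted by the first entry -/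
theorem card_piPairs_sum [Fintype G] (π : Set ℕ) :
    Nat.card (PiPairs π G) =
      ∑ v : G, if IsPiEl π v then Nat.card (Subgroup.centralizer ({v} : Set G)) else 0 := by
  rw [← sum_subtype_ite, ← Nat.card_sigma]
  refine Nat.card_congr ⟨fun p => ⟨⟨p.1.1, p.2.1⟩, ⟨p.1.2, ?_⟩⟩, fun q => ⟨(q.1.1, q.2.1), q.1.2, ?_⟩, ?_, ?_⟩
  · rw [Subgroup.mem_centralizer_singleton_iff]
    exact p.2.2.symm
  · exact (Subgroup.mem_centralizer_singleton_iff.1 q.2.2).symm
  · intro p; rfl
  · intro q; rfl

open scoped Classical in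
/-- **The decomposition formula**: `|G| k_{μ ∪ {r}}(G) = ∑_{v a μ-element} |C(v)| k_r(C(v))`. -/
theorem card_piPairs_insert [Fintype G] (μ : Set ℕ) (r : ℕ) (hr : r ∉ μ) :
    Nat.card (PiPairs (insert r μ) G) =
      ∑ v : G, if IsPiEl μ v then kPi {r} (Subgroup.centralizer ({v} : Set G)) *
        Nat.card (Subgroup.centralizer ({v} : Set G)) else 0 := by
  have hdis : Disjoint ({r} : Set ℕ) μ := by
    rw [Set.disjoint_left]
    rintro x hx hxμ
    exact hr (hx ▸ hxμ)
  obtain ⟨e, he⟩ := exists_piExp (π := μ) (n := Nat.card G) (Nat.card_pos).ne'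
  have heG : IsPiExp μ e G := he G dvd_rfl
  have hdis0 : ∀ w : G, IsPiEl {r} w → w ^ e = 1 := by
    intro w hw
    exact eq_one_of_disjoint hdis (isPiEl_pow hw e) (heG.1 w)
  have hsum : (∑ v : G, if IsPiEl μ v then kPi {r} (Subgroup.centralizer ({v} : Set G)) *
        Nat.card (Subgroup.centralizer ({v} : Set G)) else 0) =
      ∑ v : {v : G // IsPiEl μ v}, Nat.card (PiPairs {r} (Subgroup.centralizer ({(v : G)} : Set G))) := by
    rw [← sum_subtype_ite]
    apply Finset.sum_congr rfl
    intro v _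
    rw [card_piPairs_eq]
  rw [hsum, ← Nat.card_sigma]
  let T := {t : G × G × G // (IsPiEl μ t.1 ∧ IsPiEl {r} t.2.1) ∧ Commute t.1 t.2.1 ∧ Commute t.1 t.2.2 ∧
    Commute t.2.1 t.2.2}
  have hT : Nat.card T = Nat.card ((v : {v : G // IsPiEl μ v}) ×
      (PiPairs {r} (Subgroup.centralizer ({(v : G)} : Set G)))) := by
    refine Nat.card_congr ⟨fun t => ⟨⟨t.1.1, t.2.1.1⟩, ⟨(⟨t.1.2.1, ?_⟩, ⟨t.1.2.2, ?_⟩), ?_, ?_⟩⟩,
      fun q => ⟨((q.1 : G), (q.2.1.1 : G), (q.2.1.2 : G)), ⟨q.1.2, ?_⟩, ?_, ?_, ?_⟩, ?_, ?_⟩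
    · rw [Subgroup.mem_centralizer_singleton_iff]; exact t.2.2.1.symm.eq
    · rw [Subgroup.mem_centralizer_singleton_iff]; exact t.2.2.2.1.symm.eq
    · rw [← isPiEl_coe]; exact t.2.1.2
    · exact Subtype.ext t.2.2.2.2.eq
    · exact (isPiEl_coe {r}).2 q.2.2.1
    · exact (Subgroup.mem_centralizer_singleton_iff.1 q.2.1.1.2).symm
    · exact (Subgroup.mem_centralizer_singleton_iff.1 q.2.1.2.2).symm
    · exact congrArg Subtype.val q.2.2.2
    · intro t; rfl
    · intro q; rfl
  rw [← hT]
  refine Nat.card_congr ⟨fun p => ⟨(p.1.1 ^ e, (p.1.1 ^ e)⁻¹ * p.1.1, p.1.2), ⟨heG.1 _, ?_⟩, ?_, ?_, ?_⟩,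
    fun q => ⟨(q.1.1 * q.1.2.1, q.1.2.2), ?_, ?_⟩, ?_, ?_⟩
  · -- the complementary part is an `r`-element
    simp only
    have c1 : Commute ((p.1.1 ^ e)⁻¹) (p.1.1) := ((Commute.refl (p.1.1)).pow_left e).inv_left
    have hw1 : ((p.1.1 ^ e)⁻¹ * p.1.1) ^ e = 1 := by
      rw [c1.mul_pow, inv_pow, heG.2 _ (heG.1 p.1.1)]
      group
    intro q hq hqd
    have h1 : IsPiEl (insert r μ) ((p.1.1 ^ e)⁻¹ * p.1.1) := by
      obtain ⟨n, hn⟩ : ∃ n : ℕ, p.1.1 ^ n = (p.1.1 ^ e)⁻¹ * p.1.1 := by
        have : (p.1.1 ^ e)⁻¹ * p.1.1 ∈ Subgroup.zpowers (p.1.1) :=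
          mul_mem (inv_mem (pow_mem (Subgroup.mem_zpowers _) _)) (Subgroup.mem_zpowers _)
        rw [← mem_powers_iff_mem_zpowers] at this
        exact this
      rw [← hn]
      exact isPiEl_pow p.2.1 n
    rcases h1 q hq hqd with h2 | h2
    · exact h2
    · exfalso
      set w := (p.1.1 ^ e)⁻¹ * p.1.1 with hw
      obtain ⟨m, hm⟩ := hqd
      have hordpos := orderOf_pos w
      have hm0 : m ≠ 0 := by rintro rfl; rw [mul_zero] at hm; omega
      have hord : orderOf (w ^ m) = q := by
        rw [orderOf_pow_of_dvd hm0 (by rw [hm]; exact Dvd.intro_left _ rfl), hm]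
        exact Nat.mul_div_cancel _ (Nat.pos_of_ne_zero hm0)
      have h3 : IsPiEl μ (w ^ m) := by
        intro q' hq' hqd'
        rw [hord] at hqd'
        rw [(Nat.prime_dvd_prime_iff_eq hq' hq).1 hqd']
        exact h2
      have h4 : (w ^ m) ^ e = w ^ m := heG.2 _ h3
      rw [← pow_mul, mul_comm, pow_mul, hw1, one_pow] at h4
      rw [← h4, orderOf_one] at hord
      exact hq.one_lt.ne hord
  · have c1 : Commute (p.1.1 ^ e) (p.1.1) := (Commute.refl _).pow_left e
    exact (Commute.refl (p.1.1 ^ e)).inv_right.mul_right c1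
  · have c1 : Commute (p.1.1) (p.1.2) := p.2.2
    exact c1.pow_left e
  · have c1 : Commute (p.1.1) (p.1.2) := p.2.2
    exact (c1.pow_left e).inv_left.mul_left c1
  · -- the product is an `insert r μ`-element
    intro s hs hsd
    have h1 := hsd.trans (q.2.2.1.orderOf_mul_dvd_mul_orderOf)
    rcases (hs.dvd_mul).1 h1 with h2 | h2
    · exact Or.inr (q.2.1.1 s hs h2)
    · exact Or.inl (q.2.1.2 s hs h2)
  · exact (q.2.2.2.1.mul_left q.2.2.2.2).eq
  · intro p
    apply Subtype.ext
    refine Prod.ext ?_ rfl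
    simp only
    group
  · rintro ⟨⟨v, w, h⟩, ⟨hv, hw⟩, hc, h1, h2⟩
    simp only at hv hw hc
    have he1 : (v * w) ^ e = v := by
      rw [hc.mul_pow, heG.2 v hv, hdis0 w hw, mul_one]
    apply Subtype.ext
    simp only
    rw [he1]
    simp

/-- `k_r(G)` is at most the order of a Sylow subgroup -/
theorem kPi_singleton_le [Finite G] {r : ℕ} [hr : Fact r.Prime] :
    kPi {r} G ≤ r ^ (Nat.card G).factorization r := by
  obtain ⟨P⟩ : Nonempty (Sylow r G) := inferInstance
  rw [← P.card_eq_multiplicity]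
  have hrep : ∀ C : PiClasses {r} G, ∃ x : P, ConjClasses.mk (x : G) = C.1 := by
    intro C
    obtain ⟨g, hg⟩ := C.1.exists_rep
    have hgp : IsPiEl {r} g := (mem_piClasses_iff {r} g).1 (by rw [hg]; exact C.2)
    obtain ⟨k, hk⟩ := (isPiEl_singleton_iff hr.out).1 hgp
    have hp : IsPGroup r (Subgroup.zpowers g) := by
      apply IsPGroup.of_card (n := k)
      rw [Nat.card_zpowers, hk]
    obtain ⟨R, hR⟩ := hp.exists_le_sylow
    obtain ⟨t, ht⟩ := MulAction.exists_smul_eq G R P
    have hgR : g ∈ (R : Subgroup G) := hR (Subgroup.mem_zpowers g)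
    have h1 : MulAut.conj t g ∈ MulAut.conj t • (R : Subgroup G) :=
      Subgroup.smul_mem_pointwise_smul _ _ _ hgR
    have h2 : MulAut.conj t g ∈ (P : Subgroup G) := by rw [← ht]; exact h1
    refine ⟨⟨_, h2⟩, ?_⟩
    rw [← hg, ConjClasses.mk_eq_mk_iff_isConj]
    exact (isConj_iff.2 ⟨t, rfl⟩ : IsConj g _).symm
  choose x hx using hrep
  apply Nat.card_le_card_of_injective x
  intro C D hCD
  apply Subtype.ext
  rw [← hx C, ← hx D, hCD]

theorem kPi_insert_le [Finite G] {μ : Set ℕ} {r : ℕ} [hrp : Fact r.Prime] (hr : r ∉ μ) :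
    kPi (insert r μ) G ≤ r ^ (Nat.card G).factorization r * kPi μ G := by
  classical
  have : Fintype G := Fintype.ofFinite G
  have h1 := card_piPairs_insert (G := G) μ r hr
  have h2 := card_piPairs_sum (G := G) μ
  rw [card_piPairs_eq] at h1 h2
  have h3 : kPi (insert r μ) G * Nat.card G ≤
      r ^ (Nat.card G).factorization r * kPi μ G * Nat.card G := by
    rw [h1, mul_assoc, h2, Finset.mul_sum]
    apply Finset.sum_le_sum
    intro v _
    split_ifs
    · apply Nat.mul_le_mul_right
      refine (kPi_singleton_le).trans (Nat.pow_le_pow_right hrp.out.pos ?_)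
      exact (Nat.factorization_le_iff_dvd Nat.card_pos.ne' Nat.card_pos.ne').2
        (Subgroup.card_subgroup_dvd_card _) r
    · exact Nat.zero_le _
  exact Nat.le_of_mul_le_mul_right h3 Nat.card_pos

open scoped Classical in
/-- the sum over a class -/
theorem sum_class [Fintype G] (x : G) :
    ∑ v : G, (if IsConj x v then Nat.card (Subgroup.centralizer ({v} : Set G)) else 0) = Nat.card G := by
  have h1 : ∑ v : G, (if IsConj x v then Nat.card (Subgroup.centralizer ({v} : Set G)) else 0) =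
      ∑ v : G, (if IsConj x v then Nat.card (Subgroup.centralizer ({x} : Set G)) else 0) := by
    apply Finset.sum_congr rfl
    intro v _
    split_ifs with h
    · exact (card_centralizer_conj h).symm
    · rfl
  rw [h1, ← Finset.sum_filter, Finset.sum_const, smul_eq_mul]
  have h2 : (Finset.univ.filter (fun v : G => IsConj x v)).card = Nat.card (ConjClasses.mk x).carrier := by
    rw [Nat.card_eq_fintype_card, ← Set.toFinset_card]
    congr 1
    ext v
    simp only [Finset.mem_filter, Finset.mem_univ, true_and, Set.mem_toFinset,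
      ConjClasses.mem_carrier_iff_mk_eq]
    rw [ConjClasses.mk_eq_mk_iff_isConj]
    exact isConj_comm
  rw [h2]
  have h3 : (Subgroup.centralizer ({x} : Set G)).index = Nat.card (ConjClasses.mk x).carrier := by
    rw [Subgroup.centralizer_eq_comap_stabilizer]
    refine (Subgroup.index_comap_of_surjective (MulAction.stabilizer (ConjAct G) x)
      (f := (ConjAct.toConjAct (G := G)).toMonoidHom) (MulEquiv.surjective _)).trans ?_
    rw [MulAction.index_stabilizer, ConjAct.orbit_eq_carrier_conjClasses]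
    rfl
  rw [← h3, mul_comm]
  exact Subgroup.card_mul_index _

open scoped Classical in
/-- **Weighting estimate** through a subgroup `P` (in the applications a Sylow subgroup). -/
theorem weight_bound [Fintype G] (π : Set ℕ) (P : Subgroup G) (w F : G → ℕ) (m : ℕ)
    (hF : ∀ v : G, IsPiEl π v → m * F v ≤ ∑ x : G, if x ∈ P ∧ IsConj x v then w x else 0) :
    m * (∑ v : G, if IsPiEl π v then F v * Nat.card (Subgroup.centralizer ({v} : Set G)) else 0) ≤
      Nat.card G * ∑ x : G, if x ∈ P then w x else 0 := by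
  calc m * (∑ v : G, if IsPiEl π v then F v * Nat.card (Subgroup.centralizer ({v} : Set G)) else 0)
      ≤ ∑ v : G, (∑ x : G, if x ∈ P ∧ IsConj x v then w x else 0) *
          Nat.card (Subgroup.centralizer ({v} : Set G)) := by
        rw [Finset.mul_sum]
        apply Finset.sum_le_sum
        intro v _
        split_ifs with h
        · rw [← mul_assoc]
          exact Nat.mul_le_mul_right _ (hF v h)
        · simp
    _ = ∑ x : G, (if x ∈ P then w x else 0) *
          ∑ v : G, (if IsConj x v then Nat.card (Subgroup.centralizer ({v} : Set G)) else 0) := by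
        simp_rw [Finset.sum_mul, Finset.mul_sum]
        rw [Finset.sum_comm]
        apply Finset.sum_congr rfl
        intro x _
        apply Finset.sum_congr rfl
        intro v _
        by_cases h1 : x ∈ P <;> by_cases h2 : IsConj x v <;> simp [h1, h2]
    _ = Nat.card G * ∑ x : G, if x ∈ P then w x else 0 := by
        rw [Finset.mul_sum]
        apply Finset.sum_congr rfl
        intro x _
        rw [sum_class, mul_comm]

/-- `m k_π(G) ≤ |P| + (m-1) |D|` if every `π`-element is conjugate into `P` and the elements of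
`P \ D` have at least `m` conjugates in `P`. -/
theorem kPi_le_of_fib [Finite G] (π : Set ℕ) (P D : Subgroup G) (hDP : D ≤ P)
    (hP : ∀ v : G, IsPiEl π v → ∃ x ∈ P, IsConj x v) (m : ℕ) (hm : 1 ≤ m)
    (hfib : ∀ x ∈ P, x ∉ D → m ≤ Nat.card {y : G // y ∈ P ∧ IsConj y x}) :
    m * kPi π G ≤ Nat.card P + (m - 1) * Nat.card D := by
  classical
  have : Fintype G := Fintype.ofFinite G
  have h1 := weight_bound (G := G) π P (fun x => if x ∈ D then m else 1) (fun _ => 1) m (by
    intro v hv
    obtain ⟨x, hxP, hxv⟩ := hP v hv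
    rw [mul_one]
    by_cases hx : ∃ z ∈ D, IsConj z v
    · obtain ⟨z, hzD, hzv⟩ := hx
      have h2 := Finset.single_le_sum (f := fun x : G => if x ∈ P ∧ IsConj x v then
        (if x ∈ D then m else 1) else 0) (s := Finset.univ) (fun _ _ => Nat.zero_le _) (Finset.mem_univ z)
      simp only [hDP hzD, hzv, and_self, hzD, if_true] at h2
      exact h2
    · have h3 := hfib x hxP (fun h => hx ⟨x, h, hxv⟩)
      refine h3.trans ?_
      rw [Nat.card_eq_fintype_card, Fintype.card_subtype, Finset.card_filter]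
      apply Finset.sum_le_sum
      intro y _
      by_cases h4 : y ∈ P ∧ IsConj y x
      · rw [if_pos h4, if_pos ⟨h4.1, h4.2.trans hxv⟩]
        split_ifs <;> omega
      · rw [if_neg h4]; exact Nat.zero_le _)
  simp only [one_mul] at h1
  rw [← card_piPairs_sum, card_piPairs_eq] at h1
  have h5 : (∑ x : G, if x ∈ P then (if x ∈ D then m else 1) else 0) = Nat.card P + (m - 1) * Nat.card D := by
    have e1 : Nat.card P = ∑ x : G, if x ∈ P then 1 else 0 := by
      rw [← Finset.card_filter, Nat.card_eq_fintype_card, Fintype.card_subtype]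
    have e2 : Nat.card D = ∑ x : G, if x ∈ D then 1 else 0 := by
      rw [← Finset.card_filter, Nat.card_eq_fintype_card, Fintype.card_subtype]
    rw [e1, e2, Finset.mul_sum, ← Finset.sum_add_distrib]
    apply Finset.sum_congr rfl
    intro x _
    by_cases hx : x ∈ D
    · simp only [hx, hDP hx, if_true]; omega
    · simp only [hx, if_false]; omega
  rw [h5, mul_comm (Nat.card G), ← mul_assoc] at h1
  exact Nat.le_of_mul_le_mul_right h1 Nat.card_pos

end Cfsg.Agent.H471.KPi
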