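import Cfsg.Agent.H292.RowAll
import Cfsg.Agent.H78.TeFour
import Cfsg.Agent.H283.OddSpor
import Cfsg.Agent.H283.SporLie
import Cfsg.Agent.H284.AltComp
import Cfsg.Agent.H677.OrdSporIso
import Cfsg.Agent.Omega.TwoF.MathieuRK

/-!
# Involutory automorphisms of known simple groups with a component `M₂₃` (helper471)

`sporadic` : `X` a known simple group, not of Lie type in odd characteristic etc., `x` an involutory automorphism, `A` a
component of the group of fixed points with `A ≅ M₂₃` : `X` is sporadic.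
-/

set_option autoImplicit false

namespace Cfsg.Agent.H471.StdM23

open Cfsg Subgroup Cfsg.Agent.OrdDiv Cfsg.Agent.H902 Cfsg.Agent.H902.Names Cfsg.Agent.H292.Rows

universe u

theorem charP_of {F : Type} [Field F] [Fintype F] {p f : ℕ} (hp : p.Prime) (h : Fintype.card F = p ^ f) : CharP F p := by
  obtain ⟨r, hr⟩ := CharP.exists F
  have : Fact p.Prime := ⟨hp⟩
  have hrp : r.Prime := (CharP.char_is_prime_or_zero F r).resolve_right (fun h0 => by
    subst h0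
    exact (CharP.char_ne_zero_of_finite F 0) rfl)
  obtain ⟨n, hn, h2⟩ := FiniteField.card F r
  have h3 : r ∣ p ^ f := by rw [← h, h2]; exact dvd_pow_self r n.pos.ne'
  have h4 : r = p := (Nat.prime_dvd_prime_iff_eq hn hp).1 (hn.dvd_of_dvd_pow h3)
  subst h4
  exact hr

/-- a group with a name and the right order is alternating or of Lie type -/
def AL (A : Type u) [Group A] : Prop :=
  (∃ n, 2 * Nat.card A = Nat.factorial n) ∨ ∃ p : ℕ, p.Prime ∧ IsLieTypeChar p A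

theorem al_psl {n q : ℕ} {A : Type u} [Group A] (hr : OrdDiv.Real (.psl n q) A) (h2 : N2 (.psl n q) (Nat.card A)) : AL A := by
  rcases h2 with ⟨n, h0, -, hc⟩ | ⟨X, p, f, hl, ⟨hp, hf, hok, -⟩⟩
  · cases h0
  · cases hl
    obtain ⟨F, i1, i2, hF, e⟩ := hr
    have := charP_of hp hF
    exact Or.inr ⟨p, hp, Or.inl ⟨F, i1, i2, this, n, hok.1, by rw [hF]; exact hok.2, e⟩⟩

theorem al_psp {n q : ℕ} {A : Type u} [Group A] (hr : OrdDiv.Real (.psp n q) A) (h2 : N2 (.psp n q) (Nat.card A)) : AL A := by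
  rcases h2 with ⟨n, h0, -, hc⟩ | ⟨X, p, f, hl, ⟨hp, hf, hok, -⟩⟩
  · cases h0
  · cases hl
    obtain ⟨F, i1, i2, hF, e⟩ := hr
    have := charP_of hp hF
    exact Or.inr ⟨p, hp, Or.inr (Or.inl ⟨F, i1, i2, this, n, hok.1, by rw [hF]; exact hok.2, e⟩)⟩

theorem al_psu {n q : ℕ} {A : Type u} [Group A] (hr : OrdDiv.Real (.psu n q) A) (h2 : N2 (.psu n q) (Nat.card A)) : AL A := by
  rcases h2 with ⟨n, h0, -, hc⟩ | ⟨X, p, f, hl, ⟨hp, hf, hok, -⟩⟩
  · cases h0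
  · cases hl
    obtain ⟨F, i1, i2, hF, e⟩ := hr
    have := charP_of hp (hF.trans (pow_mul _ _ _).symm)
    exact Or.inr ⟨p, hp, Or.inr (Or.inr (Or.inl ⟨F, i1, i2, this, n, _, hF, hok.1,
      fun h => by have := hok.2 h.1; omega, e⟩))⟩

theorem al_plus {n q : ℕ} {A : Type u} [Group A] (hr : OrdDiv.Real (.oplus n q) A) (h2 : N2 (.oplus n q) (Nat.card A)) : AL A := by
  rcases h2 with ⟨n, h0, -, hc⟩ | ⟨X, p, f, hl, ⟨hp, hf, hok, -⟩⟩
  · cases h0
  · cases hl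
    obtain ⟨F, i1, i2, hF, e⟩ := hr
    have := charP_of hp hF
    exact Or.inr ⟨p, hp, Or.inr (Or.inr (Or.inr (Or.inr (Or.inl ⟨F, i1, i2, this, n, hok, e⟩))))⟩

theorem al_minus {n q : ℕ} {A : Type u} [Group A] (hr : OrdDiv.Real (.ominus n q) A) (h2 : N2 (.ominus n q) (Nat.card A)) : AL A := by
  rcases h2 with ⟨n, h0, -, hc⟩ | ⟨X, p, f, hl, ⟨hp, hf, hok, -⟩⟩
  · cases h0
  · cases hl
    obtain ⟨F, i1, i2, a, b, hF, hab, e⟩ := hr
    have := charP_of hp hF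
    exact Or.inr ⟨p, hp, Or.inr (Or.inr (Or.inr (Or.inr (Or.inr (Or.inl ⟨F, i1, i2, this, n, a, b, hok, hab, e⟩)))))⟩

theorem al_alt {n : ℕ} {A : Type u} [Group A] (h2 : N2 (.alt n) (Nat.card A)) : AL A := by
  rcases h2 with ⟨n, h0, -, hc⟩ | ⟨X, p, f, hl, ⟨hp, hf, hok, -⟩⟩
  · exact Or.inl ⟨n, hc⟩
  · cases hl

/-- groups with a name of the list `Pr` and the right order are alternating or of Lie type -/
theorem al_of_pr {g h : Grp} (hpr : Pr g h) {A : Type u} [Group A] (hr : OrdDiv.Real h A) (h2 : N2 h (Nat.card A)) : AL A := by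
  cases hpr with
  | lf n q => exact al_psl hr h2
  | lu n q hn => exact al_psu hr h2
  | ls n m q hm h => exact al_psp hr h2
  | lt q => exact al_psl hr h2
  | la n h => exact al_alt h2
  | us n m q hm h => exact al_psp hr h2
  | ut q => exact al_psl hr h2
  | ua n h => exact al_alt h2
  | sf m q hm => exact al_psp hr h2
  | ps m q hm => exact al_psp hr h2
  | pp m q hm => exact al_plus hr h2
  | pm m q hm => exact al_minus hr h2
  | ms m q hm => exact al_psp hr h2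

/-! ### exceptional groups -/

open Cfsg.Agent.H829.ExcComp in
theorem lie_of_pair {K : Type u} [Group K] {A : Type u} [Group A] (h : Pair K A) :
    (∃ p : ℕ, p.Prime ∧ IsLieTypeChar p A) ∨ Lie.IsoTits A := by
  rcases h with h | h | h | h | h
  · obtain ⟨F, F₀, i1, i2, i3, i4, i5, i6, hc, h⟩ := h
    rcases h with ⟨h, -, e⟩ | ⟨-, -, L, j1, j2, hL, e⟩ | ⟨-, e⟩ | ⟨-, e⟩ | ⟨-, e⟩ | ⟨-, e⟩
    · exact Or.inl ⟨2, Nat.prime_two, Or.inr (Or.inr (Or.inr (Or.inr (Or.inr (Or.inr (Or.inl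
        ⟨F₀, i4, i5, i6, Or.inl ⟨h, e⟩⟩))))))⟩
    · have := charP_of (F := L) (p := 3) (f := 2) Nat.prime_three (by rw [hL]; norm_num)
      exact Or.inl ⟨3, Nat.prime_three, Or.inr (Or.inr (Or.inl ⟨L, j1, j2, this, 3, 3, by rw [hL]; norm_num, le_rfl,
        by norm_num, e⟩))⟩
    · exact Or.inl ⟨2, Nat.prime_two, Or.inr (Or.inr (Or.inr (Or.inr (Or.inr (Or.inr (Or.inl
        ⟨F₀, i4, i5, i6, Or.inr (Or.inl e)⟩))))))⟩
    · exact Or.inl ⟨2, Nat.prime_two, Or.inr (Or.inr (Or.inr (Or.inr (Or.inr (Or.inr (Or.inl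
        ⟨F₀, i4, i5, i6, Or.inr (Or.inr (Or.inl e))⟩))))))⟩
    · exact Or.inl ⟨2, Nat.prime_two, Or.inr (Or.inr (Or.inr (Or.inr (Or.inr (Or.inr (Or.inl
        ⟨F₀, i4, i5, i6, Or.inr (Or.inr (Or.inr (Or.inl e)))⟩))))))⟩
    · exact Or.inl ⟨2, Nat.prime_two, Or.inr (Or.inr (Or.inr (Or.inr (Or.inr (Or.inr (Or.inl
        ⟨F₀, i4, i5, i6, Or.inr (Or.inr (Or.inr (Or.inr e)))⟩))))))⟩
  · obtain ⟨F, F₀, i1, i2, i3, i4, i5, i6, q, q₀, hq, -, -, h4, -, e⟩ := h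
    exact Or.inl ⟨2, Nat.prime_two, Or.inr (Or.inr (Or.inr (Or.inr (Or.inr (Or.inr (Or.inr (Or.inl
      ⟨F₀, i4, i5, i6, q₀, hq, Or.inr ⟨h4, e⟩⟩)))))))⟩
  · obtain ⟨F, i1, i2, i3, m, h1, -, h2⟩ := h
    rcases h2 with ⟨h2, e⟩ | ⟨-, h2⟩
    · exact Or.inl ⟨2, Nat.prime_two, Or.inr (Or.inr (Or.inr (Or.inr (Or.inr (Or.inr (Or.inr (Or.inr (Or.inr (Or.inl
        ⟨rfl, F, i1, i2, m, h2, h1, e⟩)))))))))⟩
    · exact Or.inr h2
  · obtain ⟨F, i1, i2, i3, -, h2⟩ := h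
    rcases h2 with ⟨q₀, h2, e⟩ | e
    · obtain ⟨n, hn, h3⟩ := FiniteField.card F 2
      have h4 : q₀ ∣ 2 ^ (n : ℕ) := by rw [← h3, h2]; exact dvd_pow_self _ two_ne_zero
      obtain ⟨k, -, hk⟩ := (Nat.dvd_prime_pow Nat.prime_two).1 h4
      have hk0 : k ≠ 0 := by
        rintro rfl
        rw [pow_zero] at hk
        rw [hk, one_pow] at h2
        have := Fintype.one_lt_card (α := F)
        omega
      exact Or.inl ⟨2, Nat.prime_two, Or.inr (Or.inr (Or.inr (Or.inr (Or.inr (Or.inr (Or.inr (Or.inl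
        ⟨F, i1, i2, i3, q₀, by rw [hk]; exact Nat.prime_two.isPrimePow.pow hk0, Or.inl ⟨h2, e⟩⟩)))))))⟩
    · exact Or.inl ⟨2, Nat.prime_two, Or.inr (Or.inr (Or.inr (Or.inr (Or.inr (Or.inr (Or.inl
        ⟨F, i1, i2, i3, Or.inr (Or.inl e)⟩))))))⟩
  · obtain ⟨F, F₀, i1, i2, i3, i4, i5, i6, q, -, -, -, e⟩ := h
    exact Or.inl ⟨2, Nat.prime_two, Or.inr (Or.inr (Or.inr (Or.inr (Or.inr (Or.inr (Or.inl
      ⟨F₀, i4, i5, i6, Or.inr (Or.inl e)⟩))))))⟩

/-! ### `M₂₃` -/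

theorem not_al {A : Type u} [Group A] (h : Spor.IsoM23 A) : ¬ AL A := by
  have hs : IsSporadicGroup A := Or.inr (Or.inr (Or.inr (Or.inl h)))
  rintro (⟨n, hn⟩ | ⟨p, hp, hl⟩)
  · exact H677.OrdSporIso.alt_spor (Or.inl hs) hn
  · exact H283.SporLie.not_lie hp hl (Or.inl hs)

open Cfsg.Agent.Omega.TwoF Cfsg.Agent.SporadicStructure.M24El Cfsg.Agent.SporadicA.GolayPerm in
theorem eight {A : Type u} [Group A] (h : Spor.IsoM23 A) : H292.Oct.Eight A := by
  obtain ⟨e⟩ := h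
  have h8 := ord_P8
  have h1 : (el P8) ^ 8 = 1 := by
    rw [← pow_orderOf_eq_one (el P8), h8]
    norm_num
  have h2 : (el P8) ^ 4 ≠ 1 := by
    intro h
    have := orderOf_dvd_of_pow_eq_one h
    rw [h8] at this
    revert this
    decide
  refine H292.Oct.Eight.map e.symm.toMonoidHom e.symm.injective ⟨⟨_, P8_mem⟩, ?_, ?_⟩
  · apply Subtype.ext
    have h3 := congrArg Subtype.val h1
    rw [SubgroupClass.coe_pow] at h3
    rw [SubgroupClass.coe_pow]
    exact h3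
  · intro h
    apply h2
    apply Subtype.ext
    have h3 := congrArg Subtype.val h
    rw [SubgroupClass.coe_pow] at h3
    rw [SubgroupClass.coe_pow]
    exact h3

variable {X : Type u} [Group X] [Finite X] [IsSimpleGroup X]

theorem no_two (hna : ¬ IsMulCommutative X) (h : IsLieTypeChar 2 X) {x : MulAut X} (hx : x * x = 1) (hx1 : x ≠ 1)
    {A : Subgroup ↥(fixedSubgroup x)} (hA : IsComponent A) (hS : Spor.IsoM23 ↥A) : False := by
  have key : ∀ (_ : Cla X), False := by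
    intro hc
    rcases row_all hc with ⟨g, -, -, ho⟩ | h4
    · obtain ⟨h, h1, h2, h3⟩ := ho x hx hx1 A hA
      exact not_al hS (al_of_pr h1 h2 h3)
    · exact not_eight h4 A (eight hS)
  have key2 : ∀ (_ : IsExceptionalChevChar 2 X ∨ IsTwistedE6D4Char 2 X ∨ Lie.IsoSuzuki X ∨ Lie.Iso2F4 X), False := by
    intro hc
    have h1 := H78.TeFour.exc_comp hna hc x (by rw [pow_two, hx]) hx1 A hA
    rcases lie_of_pair h1 with h2 | h2
    · exact not_al hS (Or.inr h2)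
    · have h3 := NotCT.Orders.tits h2
      rw [NotCT.Orders.m23 hS] at h3
      omega
  rcases h with h | h | h | h | h | h | h | h | ⟨-, h⟩ | ⟨-, h⟩ | ⟨h, -⟩
  · exact key (Or.inl h)
  · exact key (Or.inr (Or.inr (Or.inl h)))
  · exact key (Or.inr (Or.inl h))
  · obtain ⟨F, i1, i2, i3, m, hm, ho, -⟩ := h
    obtain ⟨n, -, hn⟩ := FiniteField.card F 2
    rw [hn] at ho
    exact absurd ho (by rw [Nat.not_odd_iff_even]; exact (Nat.even_pow.2 ⟨even_two, n.pos.ne'⟩))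
  · exact key (Or.inr (Or.inr (Or.inr (Or.inl h))))
  · exact key (Or.inr (Or.inr (Or.inr (Or.inr h))))
  · exact key2 (Or.inl h)
  · exact key2 (Or.inr (Or.inl h))
  · exact key2 (Or.inr (Or.inr (Or.inl h)))
  · exact key2 (Or.inr (Or.inr (Or.inr h)))
  · omega

end Cfsg.Agent.H471.StdM23
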