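import Cfsg.Agent.H471.StdM23Spor
import Cfsg.Agent.H291.BabyTab
import Cfsg.Agent.H287.OutFi24
import Cfsg.Agent.CTwoTab.FiTF
import Cfsg.Agent.H284.FStd
import Cfsg.Agent.SignalizersComponents.EvenComponent
import Cfsg.Agent.S1739

/-!
# No standard subgroups `M₂₃`, `McL` in groups with a simple generalized Fitting subgroup (helper471)
-/

set_option autoImplicit false

namespace Cfsg.Agent.H471.StdM23

open scoped commutatorElement
open Cfsg Subgroup Cfsg.Agent.NotCT Cfsg.Agent.H287 Cfsg.Agent.SignalizersComponents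
open Cfsg.Agent.SignalizersComponents.Components Cfsg.Agent.H284.FStd

universe u

theorem fix_b {X : Type u} [Group X] (h : Spor.IsoB X) : FixCard NM X := by
  intro x hx C hC hm
  obtain ⟨K, i1, i2, hK⟩ := H291.BabyTab.exists_field
  have hE := H291.BabyTab.card_E K hK
  have hX : Nat.card X = 4154781481226426191177580544000000 := Orders.b h
  have hfX : Finite X := Nat.finite_of_card_ne_zero (by rw [hX]; norm_num)
  have hd : 23 ∣ Nat.card ↥C := by
    rw [(center ↥C).card_eq_card_quotient_mul_card_subgroup, hm]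
    exact Dvd.dvd.mul_right (by norm_num) _
  have hfE : Finite ↥(Cfsg.Lie.twistedE6 K 2) := Nat.finite_of_card_ne_zero (by rw [hE]; norm_num)
  rcases H291.BabyTab.fix h K hK x hx C hC with ⟨f, h1, h2, h3⟩ | ⟨y, L, h1, h2, h3, h4, h5, h6, h7, ⟨e'⟩⟩
  · have h4 : Nat.card ↥C = Nat.card ↥(Cfsg.Lie.twistedE6 K 2) * Nat.card ↥f.ker := by
      rw [(f.ker).card_eq_card_quotient_mul_card_subgroup,
        Nat.card_congr (QuotientGroup.quotientKerEquivOfSurjective f h1).toEquiv]
    have h5 : 0 < Nat.card ↥f.ker := Nat.card_pos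
    have h6 : Nat.card ↥f.ker = 1 ∨ Nat.card ↥f.ker = 2 := by omega
    rw [h4, hE] at hd
    rcases h6 with h6 | h6 <;> rw [h6] at hd <;> revert hd <;> norm_num
  · rw [Nat.card_congr e'.toEquiv] at hd
    have h8 : 23 ∣ Nat.card ↥(Cfsg.Lie.twistedE6 K 2) :=
      hd.trans ((card_subgroup_dvd_card L).trans (card_subgroup_dvd_card (fixedSubgroup y)))
    rw [hE] at h8
    revert h8
    norm_num

theorem fix_fi24 {X : Type u} [Group X] [Finite X] [IsSimpleGroup X] (h : Spor.IsoFi24' X) : FixCard NM X := by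
  have hc := Orders.fi24 h
  have hcen : center X = ⊥ := CpAut.TwoInner.center_eq_bot_of_card inferInstance (by rw [hc]; norm_num)
  have hi : CTwoTab.CompCard (fun n m => n = 2 * 64561751654400 ∧ m = 64561751654400) X := by
    obtain ⟨f⟩ := h
    exact CTwoTab.CompCard.of_equiv f.symm CTwoTab.FiTF.compCard
  refine FixCard.mk hcen ?_ ?_
  · exact CTwoTab.CompCard.mono (fun n m h => by rw [NM, h.2]; decide) hi
  · refine OutCard.mono (fun n m h => ?_) (OutFi24.outCard h)
    rcases h with h | h <;> rw [NM, h.2] <;> decide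

theorem quo_equiv {A : Type u} [Group A] (hZ : center A = ⊥) : Nonempty (A ⧸ center A ≃* A) :=
  ⟨(QuotientGroup.quotientMulEquivOfEq hZ).trans QuotientGroup.quotientBot⟩

theorem center_of_simple {A : Type u} [Group A] [IsSimpleGroup A] (hA : IsQuasisimple A) : center A = ⊥ := by
  rcases IsSimpleGroup.eq_bot_or_eq_top_of_normal (center A) inferInstance with h1 | h1
  · exact h1
  · exact absurd h1 (quasisimple_center_ne_top hA)

/-- a nonabelian simple group is quasisimple -/
theorem quasi_of_simple {X : Type u} [Group X] (hs : IsSimpleGroup X) (hnc : ¬ IsMulCommutative X) :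
    IsQuasisimple X := by
  have hc : center X = ⊥ := by
    rcases hs.eq_bot_or_eq_top_of_normal (center X) inferInstance with h | h
    · exact h
    · exfalso
      apply hnc
      refine ⟨⟨fun a b => ?_⟩⟩
      have : b ∈ center X := by rw [h]; exact mem_top b
      exact (mem_center_iff.mp this a)
  refine ⟨?_, ?_⟩
  · rw [Group.isPerfect_def]
    rcases hs.eq_bot_or_eq_top_of_normal (commutator X) inferInstance with h | h
    · exfalso
      apply hnc
      refine ⟨⟨fun a b => ?_⟩⟩
      have : ⁅a, b⁆ ∈ commutator X := by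
        rw [_root_.commutator_def]; exact commutator_mem_commutator (mem_top a) (mem_top b)
      rw [h, mem_bot, commutatorElement_eq_one_iff_mul_comm] at this
      exact this
    · exact h
  · obtain ⟨g⟩ := quo_equiv hc
    exact g.isSimpleGroup

/-- the sporadic row, for `A / Z(A) ≅ M₂₃` -/
theorem spor' {X : Type u} [Group X] [Finite X] [IsSimpleGroup X] (hs : IsSporadicGroup X)
    {x : MulAut X} (hx : x * x = 1) (hx1 : x ≠ 1) {A : Subgroup ↥(fixedSubgroup x)} (hA : IsComponent A)
    (hS : Spor.IsoM23 (↥A ⧸ center ↥A)) : False := by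
  have hx2 : orderOf x = 2 := orderOf_eq_prime (by rw [pow_two, hx]) hx1
  have hm : Nat.card (↥A ⧸ center ↥A) = 10200960 := Orders.m23 hS
  have hd : 10200960 ∣ Nat.card X := by
    rw [← hm]
    exact ((card_quotient_dvd_card _).trans (Subgroup.card_subgroup_dvd_card A)).trans
      (Subgroup.card_subgroup_dvd_card _)
  exact spor_of (fun h => h x hx2 A hA hm) fix_b fix_fi24 hs hd

/-- **A known simple group with a component `M₂₃` of the fixed points of an involutory automorphism.** -/
theorem no_comp {X : Type u} [Group X] [Finite X] [IsSimpleGroup X] (hna : ¬ IsMulCommutative X)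
    (hk : IsKnownSimple' X) {x : MulAut X} (hxx : x * x = 1) (hx1 : x ≠ 1) {A : Subgroup ↥(fixedSubgroup x)}
    (hAn : A.Normal) (hA : IsComponent A) (hS : Spor.IsoM23 (↥A ⧸ center ↥A)) : False := by
  rcases OddHalf.Known.classify hna hk with h | ⟨p, hp, hp2, h⟩ | h | h
  · obtain ⟨m, hm, ⟨e⟩⟩ := h
    obtain ⟨n, k, hn, -, -, ⟨f⟩, -⟩ := H284.AltComp.table hm e hxx hx1 hA
    have hn2 : Nontrivial (Fin n) := Fin.nontrivial_iff_two_le.2 (by omega)
    have hsA : IsSimpleGroup ↥(alternatingGroup (Fin n)) :=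
      alternatingGroup.isSimpleGroup (by rw [Nat.card_fin]; exact hn)
    have hsA' : IsSimpleGroup ↥A := f.isSimpleGroup
    obtain ⟨g⟩ := quo_equiv (center_of_simple hA.2)
    have h2 : 2 * Nat.card ↥A = n.factorial := by
      rw [Nat.card_congr f.toEquiv, Nat.card_eq_fintype_card, two_mul_card_alternatingGroup, Fintype.card_perm,
        Fintype.card_fin]
    obtain ⟨k'⟩ := hS
    exact not_al ⟨g.symm.trans k'⟩ (Or.inl ⟨n, h2⟩)
  · refine absurd ?_ (H283.OddSpor.no_spor hp hp2 h (by rw [pow_two]; exact hxx) hA)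
    exact Or.inr (Or.inr (Or.inr (Or.inl hS)))
  · rcases h with h | h
    · obtain ⟨h1, -, -, h2⟩ := H284.CharTwoComp.of_fix (H292.Rows.act_of_chev hna (Or.inl h)) hxx hA
      obtain ⟨g⟩ := quo_equiv (center_of_simple hA.2)
      obtain ⟨k'⟩ := hS
      exact no_two hna h hxx hx1 hA ⟨g.symm.trans k'⟩
    · have hd : Nat.card (↥A ⧸ center ↥A) ∣ Nat.card X :=
        ((card_quotient_dvd_card _).trans (Subgroup.card_subgroup_dvd_card A)).trans
          (Subgroup.card_subgroup_dvd_card _)
      rw [Orders.m23 hS, Orders.tits h] at hd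
      revert hd
      decide
  · exact spor' h hxx hx1 hA hS

/-- the subgroup `A` of `C_X(t)` is normal (helper283, `H283/StdSpor.lean`) -/
theorem BB_normal {G : Type u} [Group G] [Finite G] {X A : Subgroup G} [hX : X.Normal] (hA : IsStandardSubgroup A)
    {t : G} (ht : orderOf t = 2) (htA : t ∈ centralizer (A : Set G)) : (BB X A t).Normal := by
  refine ⟨fun a ha y => ?_⟩
  have hy : ((y : ↥X) : G) ∈ centralizer ({t} : Set G) := by
    rw [mem_centralizer_singleton_iff]
    exact (mem_fix.1 y.2).symm
  have hn := StandardTrichotomy.centralizer_involution_le hA ht htA hy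
  exact (mem_normalizer_iff.1 hn _).1 ha

/-- **Standard subgroups `M₂₃`.** -/
theorem no_m23 {G : Type u} [Group G] [Finite G] (hs : IsSimpleGroup ↥(generalizedFittingSubgroup G))
    (hna : ¬ IsMulCommutative ↥(generalizedFittingSubgroup G))
    (hk : IsKnownSimple' ↥(generalizedFittingSubgroup G)) {A : Subgroup G} (hA : IsStandardSubgroup A)
    (hS : Spor.IsoM23 (↥A ⧸ center ↥A)) : False := by
  obtain ⟨h1, h2, t, htA, ht⟩ := fstd hs hna hA
  have hn : (generalizedFittingSubgroup G).Normal := Lib.GenFitting.genFitting_normal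
  obtain ⟨h3, h4, h5⟩ := comp_fix h2 hA h1 ht htA
  obtain ⟨f⟩ := hS
  refine no_comp hna hk h3 h4 (BB_normal hA ht htA) h5 ⟨?_⟩
  have e := BBequiv h1 htA
  refine (QuotientGroup.congr (center ↥(BB (generalizedFittingSubgroup G) A t)) (center ↥A) e ?_).trans f
  exact QsBasic.map_center_mulEquiv e

/-- **Standard subgroups `McL`.** -/
theorem no_mcl {G : Type u} [Group G] [Finite G] (hs : IsSimpleGroup ↥(generalizedFittingSubgroup G))
    (hna : ¬ IsMulCommutative ↥(generalizedFittingSubgroup G)) {A : Subgroup G} (hA : IsStandardSubgroup A)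
    (hS : Spor.IsoMcL (↥A ⧸ oddCore ↥A)) : False := by
  obtain ⟨h1, h2, z, hzc, hz⟩ := fstd hs hna hA
  have hle : A ≤ centralizer {z} := by
    intro a ha
    rw [mem_centralizer_singleton_iff]
    exact mem_centralizer_iff.1 hzc a ha
  have hN := StandardTrichotomy.centralizer_involution_le hA hz hzc
  have hn : (A.subgroupOf (centralizer {z})).Normal := (normal_subgroupOf_iff_le_normalizer hle).2 hN
  have : Fact (Nat.Prime 2) := ⟨Nat.prime_two⟩
  have e := subgroupOfEquivOfLe hle
  have h2A : 2 ∣ Nat.card ↥A := by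
    have h3 := card_quotient_dvd_card (oddCore ↥A)
    rw [Orders.mcl hS] at h3
    exact (by norm_num : 2 ∣ 898128000).trans h3
  have hK : IsPComponent 2 (A.subgroupOf (centralizer {z})) := by
    apply EvenComponent.isPComponent_of_isComponent
    · exact ⟨hn.isSubnormal, QsBasic.isQuasisimple_of_mulEquiv e.symm hA.1⟩
    · rw [Nat.card_congr e.toEquiv]
      exact h2A
  have hFn : (generalizedFittingSubgroup G).Normal := Lib.GenFitting.genFitting_normal
  have hOn : (oddCore G).Normal := Lib.Cores.pPrimeCore_normal 2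
  have hOc : (Nat.card ↥(oddCore G)).Coprime 2 := Lib.Cores.pPrimeCore_coprime 2
  have hO : oddCore G = ⊥ := by
    rcases IsSimpleGroup.eq_bot_or_eq_top_of_normal ((oddCore G).subgroupOf (generalizedFittingSubgroup G))
      inferInstance with h3 | h3
    · have h4 : oddCore G ≤ centralizer (generalizedFittingSubgroup G : Set G) := by
        intro x hx
        rw [mem_centralizer_iff]
        intro y hy
        exact (commute_of_normal_of_disjoint _ _ hOn hFn
          (by rw [disjoint_comm]; exact subgroupOf_eq_bot.1 h3 |>.symm) x y hx hy).symm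
      rw [h2] at h4
      exact le_bot_iff.1 h4
    · exfalso
      have h4 : generalizedFittingSubgroup G ≤ oddCore G := subgroupOf_eq_top.1 h3
      have h5 : Nat.card ↥A ∣ Nat.card ↥(oddCore G) := card_dvd_of_le (h1.trans h4)
      have h6 : ¬ 2 ∣ Nat.card ↥(oddCore G) := (Nat.Prime.coprime_iff_not_dvd Nat.prime_two).1 hOc.symm
      exact h6 (h2A.trans h5)
  have hF : IsQuasisimple ↥(generalizedFittingSubgroup G) := quasi_of_simple hs hna
  refine (S1739.result hO hF z hz _ hK).1 ?_
  obtain ⟨f⟩ := hS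
  exact ⟨(QuotientGroup.congr (oddCore ↥(A.subgroupOf (centralizer {z}))) (oddCore ↥A) e
    (Lib.Cores.map_equiv_pPrimeCore e 2)).trans f⟩

end Cfsg.Agent.H471.StdM23
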